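import Groth.Agent.L14.PicSurj.Tilde
import Groth.Agent.L18.TildeFunctor
import Groth.Agent.L18.AmpleGG
import Groth.Agent.L17.Approx.Extend
import Groth.Agent.L21.Extend.Semilocal
import Groth.Agent.L20.ModStalk
import Groth.Agent.S12643
import Groth.Prelude.Def_Formal2

/-!
# Surjectivity of the Picard group map to the completion
-/

set_option autoImplicit false
set_option backward.isDefEq.respectTransparency false

universe u

open CategoryTheory AlgebraicGeometry TopologicalSpace Opposite TensorProduct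

noncomputable section

namespace Groth.L14.PicSurj

open Groth.L21.Extend Groth.L14.ParaF

variable {X X' : Scheme.{u}}

/-- Pullback commutes with restriction to an open. -/
def pullbackRestrictIso (f : X' ⟶ X) (U : X.Opens) (G : X.Modules) :
    (Scheme.Modules.pullback (f ∣_ U)).obj (G.restrict U.ι) ≅
      ((Scheme.Modules.pullback f).obj G).restrict (f ⁻¹ᵁ U).ι :=
  (Scheme.Modules.pullback (f ∣_ U)).mapIso ((Scheme.Modules.restrictFunctorIsoPullback U.ι).app G) ≪≫
    (Scheme.Modules.pullbackComp (f ∣_ U) U.ι).app G ≪≫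
    (Scheme.Modules.pullbackCongr (morphismRestrict_ι f U)).app G ≪≫
    ((Scheme.Modules.pullbackComp (f ⁻¹ᵁ U).ι f).app G).symm ≪≫
    ((Scheme.Modules.restrictFunctorIsoPullback (f ⁻¹ᵁ U).ι).app _).symm

theorem exists_tilde_extension {S : CommRingCat.{u}} [IsNoetherianRing S] (W : (Spec S).Opens)
    (L : W.toScheme.Modules) (hL : PicF.IsInvertible L) :
    ∃ N : ModuleCat.{u} S, Module.Finite S N ∧ GenOn (tilde N) W ∧ Nonempty ((tilde N).restrict W.ι ≅ L) := by
  haveI : Coh.IsQCoh L := Groth.L21.Extend.isQCoh_of_isInvertible hL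
  have hW : IsCompact (W : Set (Spec S)) := TopologicalSpace.NoetherianSpace.isCompact _
  haveI : QuasiCompact W.ι := Groth.L17.Approx.quasiCompact_ι W hW
  let G := (Scheme.Modules.pushforward W.ι).obj L
  haveI : Coh.IsQCoh G := Groth.L16.QcqsPush.isQCoh_push L W.ι
  obtain ⟨F, -, e, -, hF, hFT, -⟩ := Groth.L17.Approx.exists_extension W hW G L
    (Groth.L18.Ample.isFT_of_isInvertible hL) ((Scheme.Modules.restrictFunctorAdjCounitIso W.ι).app L).inv
  haveI := hF
  haveI : Module.Finite Γ(Spec S, ⊤) Γ(F, ⊤) :=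
    Groth.L20.ModStalk.finite_sections F ⟨hF, hFT⟩ (isAffineOpen_top (Spec S))
  haveI : Module.Finite S Γ(Spec S, ⊤) :=
    Module.Finite.of_surjective (Algebra.linearMap S Γ(Spec S, ⊤))
      (Scheme.ΓSpecIso S).symm.commRingCatIsoToRingEquiv.surjective
  let N : ModuleCat.{u} S := moduleSpecΓFunctor.obj F
  let c : tilde N ≅ F := Groth.L18.TildeF.counitIso F
  refine ⟨N, Module.Finite.trans (R := S) Γ(Spec S, ⊤) Γ(F, ⊤), ?_,
    ⟨(Scheme.Modules.restrictFunctor W.ι).mapIso c ≪≫ e⟩⟩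
  refine genOn_of_iso c.symm ?_
  have := genOn_of_restrict W.ι (genOn_of_iso e.symm (isInvertible_iff.mp hL))
  rwa [W.ι_image_top] at this

theorem picPullbackSurjective
    (B₀ B : Type u) [CommRing B₀] [CommRing B] [IsNoetherianRing B₀] [Algebra B₀ B] [Module.Flat B₀ B]
    (I₀ : Ideal B₀) (I : Ideal B) (hI : I = Ideal.map (algebraMap B₀ B) I₀) [HenselianRing B I]
    [IsNoetherianRing (AdicCompletion I B)]
    (J : Ideal B) (hJ : I ≤ J)
    (V : (Spec (CommRingCat.of B)).Opens)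
    (hV : (V : Set (Spec (CommRingCat.of B))) = (PrimeSpectrum.zeroLocus (J : Set B))ᶜ) :
    Formal2.PicPullbackSurjective
      (Spec.map (CommRingCat.ofHom (algebraMap B (AdicCompletion I B))) ∣_ V) := by
  intro L' hL'
  let S : CommRingCat.{u} := CommRingCat.of (AdicCompletion I B)
  let φ : CommRingCat.of B ⟶ S := CommRingCat.ofHom (algebraMap B (AdicCompletion I B))
  haveI : IsNoetherianRing S := ‹IsNoetherianRing (AdicCompletion I B)›
  obtain ⟨N, hN, hgen, ⟨eL⟩⟩ := exists_tilde_extension (S := S) (Spec.map φ ⁻¹ᵁ V) L' hL'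
  haveI := hN
  have hmem : ∀ y : PrimeSpectrum B, (y ∈ V ↔ ¬ J ≤ y.asIdeal) := fun y => by
    show y ∈ (V : Set (Spec (CommRingCat.of B))) ↔ _
    rw [hV]
    rfl
  have hNloc : ∀ (p : Ideal (AdicCompletion I B)) [p.IsPrime],
      ¬ J ≤ p.comap (algebraMap B (AdicCompletion I B)) → ∃ s ∉ p, ∃ n : N, FreeAt N s n := by
    intro p hp hJp
    exact exists_freeAt_of_genOn N hgen (y := (⟨p, hp⟩ : PrimeSpectrum (AdicCompletion I B))) ((hmem _).mpr hJp)
  obtain ⟨M, _, _, hMfin, hMfp, hMfree, ⟨e⟩⟩ :=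
    Groth.Agent.S12643.result B₀ B I₀ I hI J hJ N fun p _ hp => by
      obtain ⟨s, hs, n, hn⟩ := hNloc p fun h => hp (Ideal.map_le_iff_le_comap.mpr h)
      obtain ⟨eN⟩ := hn.nonempty_equiv p hs
      exact Module.Free.of_equiv eN
  have hIfg : I.FG := hI ▸ Ideal.FG.map (IsNoetherian.noetherian I₀) (algebraMap B₀ B)
  have hMloc : ∀ (q : Ideal B) [q.IsPrime], ¬ J ≤ q → ∃ s ∉ q, ∃ m : M, FreeAt M s m := fun q _ hq =>
    exists_freeAt_of_completion hIfg HenselianRing.jac hJ hMfree e hNloc q hq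
  let M' : ModuleCat.{u} (CommRingCat.of B) := ModuleCat.of B M
  have hgenM : GenOn (tilde M') V := genOn_tilde M' fun y hy => hMloc y.asIdeal ((hmem y).mp hy)
  refine ⟨(tilde M').restrict V.ι, ?_, ?_⟩
  · rw [isInvertible_iff]
    have := genOn_restrict V.ι hgenM
    rwa [V.ι_preimage_self] at this
  obtain ⟨ex⟩ := Groth.L18.TildeF.extendScalars_equiv (R := B) (S := AdicCompletion I B) M'
  let eN : (Scheme.Modules.pullback (Spec.map φ)).obj (tilde M') ≅ tilde N :=
    (Groth.L18.TildeF.pullbackTildeIso φ).app M' ≪≫ (tilde.functor S).mapIso (ex.trans e).toModuleIso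
  exact ⟨pullbackRestrictIso (Spec.map φ) V (tilde M') ≪≫
    (Scheme.Modules.restrictFunctor (Spec.map φ ⁻¹ᵁ V).ι).mapIso eN ≪≫ eL⟩

end Groth.L14.PicSurj
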