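import Mathlib.Algebra.Module.FinitePresentation
import Mathlib.LinearAlgebra.Dimension.Constructions
import Mathlib.RingTheory.Localization.BaseChange
import Mathlib.RingTheory.Nakayama
import Mathlib.RingTheory.AdicCompletion.Algebra
import Mathlib.RingTheory.LocalRing.ResidueField.Ideal
import Mathlib.LinearAlgebra.TensorProduct.Tower
import Groth.Agent.L14.Popescu.Approx

/-!
# Modules which are free of rank one on a basic open
-/

set_option autoImplicit false

universe u

open TensorProduct

namespace Groth.L14.PicSurj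

variable {R : Type u} [CommRing R] {M : Type u} [AddCommGroup M] [Module R M]

/-- `M` is free on `m` after inverting `s`. -/
def FreeAt (M : Type u) [AddCommGroup M] [Module R M] (s : R) (m : M) : Prop :=
  (∀ x : M, ∃ (k : ℕ) (r : R), s ^ k • x = r • m) ∧ ∀ r : R, r • m = 0 → ∃ k : ℕ, s ^ k * r = 0

theorem FreeAt.of_dvd {s : R} {m : M} (h : FreeAt M s m) {t c : R} {n : ℕ} (ht : t ^ n = c * s) :
    FreeAt M t m := by
  refine ⟨fun x => ?_, fun r hr => ?_⟩
  · obtain ⟨k, a, ha⟩ := h.1 x
    exact ⟨n * k, c ^ k * a, by rw [pow_mul, ht, mul_pow, mul_smul, ha, smul_smul]⟩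
  · obtain ⟨k, hk⟩ := h.2 r hr
    exact ⟨n * k, by rw [pow_mul, ht, mul_pow, mul_assoc, hk, mul_zero]⟩

theorem FreeAt.nonempty_equiv {s : R} {m : M} (h : FreeAt M s m) (q : Ideal R) [q.IsPrime] (hs : s ∉ q) :
    Nonempty (Localization.AtPrime q ≃ₗ[Localization.AtPrime q] LocalizedModule q.primeCompl M) := by
  let l : Localization.AtPrime q →ₗ[Localization.AtPrime q] LocalizedModule q.primeCompl M :=
    LinearMap.toSpanSingleton _ _ (LocalizedModule.mk m 1)
  refine ⟨LinearEquiv.ofBijective l ⟨(injective_iff_map_eq_zero l).mpr fun a ha => ?_, fun y => ?_⟩⟩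
  · obtain ⟨⟨r, t⟩, rfl⟩ := IsLocalization.mk'_surjective q.primeCompl a
    simp only [l, LinearMap.toSpanSingleton_apply] at ha
    rw [← Localization.mk_eq_mk', LocalizedModule.mk_smul_mk, ← LocalizedModule.zero_mk 1,
      LocalizedModule.mk_eq] at ha
    obtain ⟨v, hv⟩ := ha
    simp only [Submonoid.smul_def, smul_zero, one_smul, mul_one] at hv
    obtain ⟨k, hk⟩ := h.2 ((v : R) * r) (by rw [mul_smul]; exact hv)
    rw [IsLocalization.mk'_eq_zero_iff]
    exact ⟨⟨s ^ k * v, mul_mem (pow_mem hs k : s ^ k ∈ q.primeCompl) v.2⟩, by simpa [mul_assoc] using hk⟩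
  · induction y using LocalizedModule.induction_on with
    | _ x t =>
      obtain ⟨k, r, hr⟩ := h.1 x
      refine ⟨Localization.mk r (⟨s ^ k, pow_mem hs k⟩ * t), ?_⟩
      simp only [l, LinearMap.toSpanSingleton_apply, LocalizedModule.mk_smul_mk, mul_one]
      rw [LocalizedModule.mk_eq]
      refine ⟨1, ?_⟩
      simp only [one_smul, Submonoid.smul_def, Submonoid.coe_mul]
      rw [← hr, smul_smul, mul_comm]

theorem exists_freeAt [Module.FinitePresentation R M] (q : Ideal R) [q.IsPrime]
    [Module.Free (Localization.AtPrime q) (LocalizedModule q.primeCompl M)]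
    (h1 : Module.finrank (Localization.AtPrime q) (LocalizedModule q.primeCompl M) = 1) :
    ∃ s ∉ q, ∃ m : M, FreeAt M s m := by
  let Rq := Localization.AtPrime q
  let fM := LocalizedModule.mkLinearMap q.primeCompl M
  let b := Module.basisUnique Unit h1 (R := Rq) (M := LocalizedModule q.primeCompl M)
  let e : Rq ≃ₗ[Rq] LocalizedModule q.primeCompl M := (b.equivFun.trans (LinearEquiv.funUnique Unit Rq Rq)).symm
  obtain ⟨⟨m, t⟩, hmt⟩ := IsLocalizedModule.surj q.primeCompl fM (e 1)
  let l := LinearMap.toSpanSingleton R M m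
  have hbij : Function.Bijective (IsLocalizedModule.map q.primeCompl (Algebra.linearMap R Rq) fM l) := by
    have hl : IsLocalizedModule.map q.primeCompl (Algebra.linearMap R Rq) fM l =
        (e.toLinearMap ∘ₗ LinearMap.toSpanSingleton Rq Rq (algebraMap R Rq (t : R))).restrictScalars R := by
      apply IsLocalizedModule.ext q.primeCompl (Algebra.linearMap R Rq) (IsLocalizedModule.map_units fM)
      ext
      rw [LinearMap.comp_apply, IsLocalizedModule.map_apply]
      simp only [LinearMap.comp_apply, LinearMap.restrictScalars_apply, Algebra.linearMap_apply, map_one,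
        LinearMap.toSpanSingleton_apply, one_smul, LinearEquiv.coe_coe, l]
      rw [Algebra.algebraMap_eq_smul_one]
      exact hmt.symm.trans (LinearMap.map_smul_of_tower e.toLinearMap (t : R) 1).symm
    rw [hl]
    refine e.bijective.comp ?_
    have hu := IsLocalization.map_units Rq t
    refine ⟨fun a a' haa => hu.mul_left_inj.mp haa, fun a => ⟨a * ↑hu.unit⁻¹, ?_⟩⟩
    show a * ↑hu.unit⁻¹ * _ = a
    rw [mul_assoc, IsUnit.val_inv_mul, mul_one]
  obtain ⟨g, hg, hb⟩ := Module.FinitePresentation.exists_notMem_bijective l q (Algebra.linearMap R Rq) fM hbij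
  refine ⟨g, hg, m, fun x => ?_, fun r hr => ?_⟩
  · obtain ⟨z, hz⟩ := hb.2 (LocalizedModule.mk x 1)
    induction z using LocalizedModule.induction_on with
    | _ r u =>
      rw [LocalizedModule.map_mk, LocalizedModule.mk_eq] at hz
      obtain ⟨w, hw⟩ := hz
      obtain ⟨i, hi⟩ := u.2
      obtain ⟨j, hj⟩ := w.2
      refine ⟨j + i, g ^ j * r, ?_⟩
      simp only [l, Submonoid.smul_def, OneMemClass.coe_one, one_smul, LinearMap.toSpanSingleton_apply] at hw
      rw [← show g ^ i = (u : R) from hi, ← show g ^ j = (w : R) from hj] at hw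
      rw [pow_add, mul_smul, mul_smul]
      exact hw.symm
  · have h0 : LocalizedModule.map (Submonoid.powers g) l (LocalizedModule.mk r 1) = 0 := by
      rw [LocalizedModule.map_mk]
      simp [l, hr]
    have := hb.1 (h0.trans (map_zero _).symm)
    rw [← LocalizedModule.zero_mk 1, LocalizedModule.mk_eq] at this
    obtain ⟨w, hw⟩ := this
    obtain ⟨j, hj⟩ := w.2
    refine ⟨j, ?_⟩
    rw [show g ^ j = (w : R) from hj]
    simpa [Submonoid.smul_def] using hw

theorem finrank_residue [Module.Finite R M] {κ : Type u} [Field κ] [Algebra R κ] (q : Ideal R) [q.IsPrime]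
    (hq : RingHom.ker (algebraMap R κ) = q)
    [Module.Free (Localization.AtPrime q) (LocalizedModule q.primeCompl M)] :
    Module.finrank κ (κ ⊗[R] M) = Module.finrank (Localization.AtPrime q) (LocalizedModule q.primeCompl M) := by
  let Rq := Localization.AtPrime q
  let φ : Rq →+* κ := IsLocalization.lift (M := q.primeCompl) (g := algebraMap R κ) fun y =>
    isUnit_iff_ne_zero.mpr fun h0 => y.2 (hq.le (RingHom.mem_ker.mpr h0))
  algebraize_only [φ]
  haveI : IsScalarTower R Rq κ := IsScalarTower.of_algebraMap_eq fun x => by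
    rw [RingHom.algebraMap_toAlgebra]; exact (IsLocalization.lift_eq _ x).symm
  have hbc : IsBaseChange Rq (LocalizedModule.mkLinearMap q.primeCompl M) :=
    (isLocalizedModule_iff_isBaseChange q.primeCompl Rq _).mp inferInstance
  rw [← Module.finrank_baseChange (R := κ) (S := Rq)]
  exact ((TensorProduct.AlgebraTensorModule.cancelBaseChange R Rq κ κ M).symm.trans
    (TensorProduct.AlgebraTensorModule.congr (LinearEquiv.refl κ κ) hbc.equiv)).finrank_eq

/-- Rank one descends along base change. -/
theorem exists_freeAt_of_baseChange [Module.FinitePresentation R M] {S : Type u} [CommRing S] [Algebra R S]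
    {N : Type u} [AddCommGroup N] [Module S N] [Module.Finite S N] (e : S ⊗[R] M ≃ₗ[S] N)
    (p : Ideal S) [p.IsPrime]
    (hfree : Module.Free (Localization.AtPrime (p.comap (algebraMap R S)))
      (LocalizedModule (p.comap (algebraMap R S)).primeCompl M))
    {s : S} (hs : s ∉ p) {n : N} (hn : FreeAt N s n) :
    ∃ r ∉ p.comap (algebraMap R S), ∃ m : M, FreeAt M r m := by
  let q := p.comap (algebraMap R S)
  refine exists_freeAt q ?_
  let κ := p.ResidueField
  have hker : RingHom.ker (algebraMap R κ) = q := by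
    rw [IsScalarTower.algebraMap_eq R S κ, ← RingHom.comap_ker, Ideal.ker_algebraMap_residueField]
  obtain ⟨eN⟩ := hn.nonempty_equiv p hs
  haveI : Module.Free (Localization.AtPrime p) (LocalizedModule p.primeCompl N) := Module.Free.of_equiv eN
  rw [← finrank_residue (κ := κ) q hker, ← (TensorProduct.AlgebraTensorModule.cancelBaseChange R S κ κ M).finrank_eq,
    (TensorProduct.AlgebraTensorModule.congr (LinearEquiv.refl κ κ) e).finrank_eq,
    finrank_residue (κ := κ) p (Ideal.ker_algebraMap_residueField p), ← eN.finrank_eq, Module.finrank_self]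

/-- If `I` is in the radical of `F ⊔ I ^ k` with a uniform exponent, then it is in the radical of `F`. -/
theorem le_radical_of_uniform {F I : Ideal R} (hI : I.FG) (hjac : I ≤ (⊥ : Ideal R).jacobson)
    (h : ∀ t ∈ I, ∃ n : ℕ, ∀ k : ℕ, t ^ n ∈ F ⊔ I ^ k) : I ≤ F.radical := by
  classical
  obtain ⟨T, hT⟩ := hI
  have hTI : ∀ t ∈ T, t ∈ I := fun t ht => hT ▸ Ideal.subset_span ht
  choose n hn using fun t : T => h t.1 (hTI _ t.2)
  let G : Finset R := T.attach.image fun t => t.1 ^ n t
  let Q : Ideal R := Ideal.span (G : Set R)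
  have hQ : ∀ t : T, t.1 ^ n t ∈ Q := fun t =>
    Ideal.subset_span (Finset.mem_image_of_mem _ (Finset.mem_attach _ _))
  have hrad : I ≤ (I * Q).radical := by
    rw [← hT, Submodule.span_le]
    intro t ht
    exact ⟨n ⟨t, ht⟩ + 1, by rw [pow_succ']; exact Ideal.mul_mem_mul (hT ▸ hTI t ht) (hQ ⟨t, ht⟩)⟩
  obtain ⟨k, hk⟩ := Ideal.exists_pow_le_of_le_radical_of_fg hrad ⟨T, hT⟩
  have hQF : Q ≤ F ⊔ I • Q := by
    refine le_trans ?_ (sup_le_sup_left hk F)
    rw [Ideal.span_le]
    intro g hg
    obtain ⟨t, -, rfl⟩ := Finset.mem_image.mp hg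
    exact hn t k
  have hle := Submodule.le_of_le_smul_of_le_jacobson_bot (Submodule.fg_span G.finite_toSet) hjac hQF
  rw [← hT, Submodule.span_le]
  exact fun t ht => ⟨n ⟨t, ht⟩, hle (hQ ⟨t, ht⟩)⟩

/-- A finitely presented module over a henselian (or just Zariski) pair which becomes invertible on the
complement of `V(J)` after completion is invertible there. -/
theorem exists_freeAt_of_completion {I J : Ideal R} (hI : I.FG) (hjac : I ≤ (⊥ : Ideal R).jacobson) (hJ : I ≤ J)
    [Module.FinitePresentation R M]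
    (hfree : ∀ (q : Ideal R) [q.IsPrime], ¬ J ≤ q →
      Module.Free (Localization.AtPrime q) (LocalizedModule q.primeCompl M))
    {N : Type u} [AddCommGroup N] [Module (AdicCompletion I R) N] [Module.Finite (AdicCompletion I R) N]
    (e : AdicCompletion I R ⊗[R] M ≃ₗ[AdicCompletion I R] N)
    (hN : ∀ (p : Ideal (AdicCompletion I R)) [p.IsPrime], ¬ J ≤ p.comap (algebraMap R _) →
      ∃ s ∉ p, ∃ n : N, FreeAt N s n)
    (q : Ideal R) [q.IsPrime] (hq : ¬ J ≤ q) : ∃ s ∉ q, ∃ m : M, FreeAt M s m := by
  let S := AdicCompletion I R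
  have hev := Groth.L14.Popescu.evalₐ_eq_zero_iff hI
  let F : Ideal R := Ideal.span {s | ∃ m : M, FreeAt M s m}
  have key : ∀ (p : Ideal S) [p.IsPrime], ¬ J ≤ p.comap (algebraMap R S) → ¬ F ≤ p.comap (algebraMap R S) := by
    intro p _ hp hle
    obtain ⟨s, hs, n, hn⟩ := hN p hp
    obtain ⟨r, hr, m, hm⟩ := exists_freeAt_of_baseChange e p (hfree _ hp) hs hn
    exact hr (hle (Ideal.subset_span ⟨m, hm⟩))
  suffices hFq : ¬ F ≤ q by
    by_contra hne
    simp only [not_exists, not_and] at hne
    exact hFq (Ideal.span_le.mpr fun s ⟨m, hm⟩ => by_contra fun hs => hne s hs m hm)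
  by_cases hIq : I ≤ q
  · -- a point of the completion over `q`
    let ev : S →ₐ[R] R ⧸ I ^ 1 := AdicCompletion.evalₐ I 1
    have hIq' : I ^ 1 ≤ q := by rwa [pow_one]
    let π : S →+* R ⧸ q := (Ideal.Quotient.factor hIq').comp ev.toRingHom
    let p : Ideal S := RingHom.ker π
    haveI : p.IsPrime := RingHom.ker_isPrime π
    have hpq : p.comap (algebraMap R S) = q := by
      ext x
      rw [Ideal.mem_comap, RingHom.mem_ker, RingHom.comp_apply, AlgHom.toRingHom_eq_coe, RingHom.coe_coe,
        AlgHom.commutes, Ideal.Quotient.algebraMap_eq, Ideal.Quotient.factor_mk, Ideal.Quotient.eq_zero_iff_mem]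
    have := key p (hpq.symm ▸ hq)
    rwa [hpq] at this
  · intro hle
    refine hIq (le_trans ?_ (Ideal.IsPrime.radical_le_iff (‹_›) |>.mpr hle))
    refine le_radical_of_uniform hI hjac fun t ht => ?_
    have hrad : algebraMap R S t ∈ (F.map (algebraMap R S)).radical := by
      rw [Ideal.radical_eq_sInf, Submodule.mem_sInf]
      rintro p ⟨hFp, hp⟩
      by_contra htp
      exact key p (fun hJp => htp (hJp (hJ ht))) (Ideal.map_le_iff_le_comap.mp hFp)
    obtain ⟨n, hn⟩ := hrad
    refine ⟨n, fun k => ?_⟩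
    have h1 := Ideal.mem_map_of_mem (AdicCompletion.evalₐ I k).toRingHom hn
    have hc : (AdicCompletion.evalₐ I k).toRingHom.comp (algebraMap R S) = Ideal.Quotient.mk (I ^ k) :=
      RingHom.ext fun x => (AdicCompletion.evalₐ I k).commutes x
    rw [Ideal.map_map, ← map_pow (algebraMap R S), ← RingHom.comp_apply, hc, ← Ideal.mem_comap,
      Ideal.comap_map_of_surjective _ Ideal.Quotient.mk_surjective, ← RingHom.ker_eq_comap_bot, Ideal.mk_ker] at h1
    exact h1

end Groth.L14.PicSurj
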