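import Groth.Agent.L14.PicSurj.Away
import Groth.Agent.L06.IAdic
import Groth.Agent.L01.AdicNoeth
import Groth.Agent.L18.LocFreeFP

/-!
# Surjectivity on vector bundles for maps of henselian pairs with equal completions
-/

set_option autoImplicit false
set_option backward.isDefEq.respectTransparency false

universe u

open CategoryTheory AlgebraicGeometry TopologicalSpace Opposite TensorProduct

noncomputable section

namespace Groth.L14.PicSurj

theorem exists_tilde_extension' {S : CommRingCat.{u}} [IsNoetherianRing S] (W : (Spec S).Opens)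
    (L : W.toScheme.Modules) [Coh.IsQCoh L] (hFT : CohB1.IsFT L) :
    ∃ N : ModuleCat.{u} S, Module.Finite S N ∧ Nonempty ((tilde N).restrict W.ι ≅ L) := by
  have hW : IsCompact (W : Set (Spec S)) := TopologicalSpace.NoetherianSpace.isCompact _
  haveI : QuasiCompact W.ι := Groth.L17.Approx.quasiCompact_ι W hW
  let G := (Scheme.Modules.pushforward W.ι).obj L
  haveI : Coh.IsQCoh G := Groth.L16.QcqsPush.isQCoh_push L W.ι
  obtain ⟨F, -, e, -, hF, hFT', -⟩ := Groth.L17.Approx.exists_extension W hW G L hFT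
    ((Scheme.Modules.restrictFunctorAdjCounitIso W.ι).app L).inv
  haveI := hF
  haveI : Module.Finite Γ(Spec S, ⊤) Γ(F, ⊤) :=
    Groth.L20.ModStalk.finite_sections F ⟨hF, hFT'⟩ (isAffineOpen_top (Spec S))
  haveI : Module.Finite S Γ(Spec S, ⊤) :=
    Module.Finite.of_surjective (Algebra.linearMap S Γ(Spec S, ⊤))
      (Scheme.ΓSpecIso S).symm.commRingCatIsoToRingEquiv.surjective
  exact ⟨moduleSpecΓFunctor.obj F, Module.Finite.trans (R := S) Γ(Spec S, ⊤) Γ(F, ⊤),
    ⟨(Scheme.Modules.restrictFunctor W.ι).mapIso (Groth.L18.TildeF.counitIso F) ≪≫ e⟩⟩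

theorem FreeRankAt.baseChange {R : Type u} [CommRing R] {N : Type u} [AddCommGroup N] [Module R N]
    {S : Type u} [CommRing S] [Algebra R S] (p : Ideal S) [p.IsPrime] (q : Ideal R) [q.IsPrime]
    (hq : q = p.comap (algebraMap R S)) {n : ℕ} (h : FreeRankAt N q n) : FreeRankAt (S ⊗[R] N) p n := by
  obtain ⟨f⟩ := h
  let A := Localization.AtPrime q
  let T := Localization.AtPrime p
  let φ : A →+* T := Localization.localRingHom q p (algebraMap R S) hq
  algebraize_only [φ]
  haveI : IsScalarTower R A T := IsScalarTower.of_algebraMap_eq fun x => by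
    rw [RingHom.algebraMap_toAlgebra, Localization.localRingHom_to_map, IsScalarTower.algebraMap_apply R S T]
  have hA : IsBaseChange A (LocalizedModule.mkLinearMap q.primeCompl N) :=
    (isLocalizedModule_iff_isBaseChange q.primeCompl A _).mp inferInstance
  have hT : IsBaseChange T (LocalizedModule.mkLinearMap p.primeCompl (S ⊗[R] N)) :=
    (isLocalizedModule_iff_isBaseChange p.primeCompl T _).mp inferInstance
  exact ⟨((piScalarRight A T T (Fin n)).symm.trans (AlgebraTensorModule.congr (LinearEquiv.refl T T) f)).trans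
    (((AlgebraTensorModule.congr (LinearEquiv.refl T T) hA.equiv.symm).trans
      (AlgebraTensorModule.cancelBaseChange R A T T N)).trans
      ((AlgebraTensorModule.cancelBaseChange R S T T N).symm.trans hT.equiv))⟩

theorem exists_bundle (A A' : Type u) [CommRing A] [CommRing A']
    [IsNoetherianRing A] [IsNoetherianRing A'] (φ : A →+* A') (J : Ideal A)
    [HenselianRing A J] [HenselianRing A' (J.map φ)]
    (hq : ∀ n : ℕ, Function.Bijective (Ideal.quotientMap (Ideal.map φ (J ^ n)) φ Ideal.le_comap_map))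
    (U : (Spec (CommRingCat.of A)).Opens)
    (hU : ∀ p : PrimeSpectrum A, ¬ J ≤ p.asIdeal → p ∈ U)
    (n : ℕ) (E' : (↑((Spec.map (CommRingCat.ofHom φ)) ⁻¹ᵁ U) : Scheme.{u}).Modules)
    (hE' : FlatMod.IsFinLocFreeOfRank n E') :
    ∃ E : (U : Scheme.{u}).Modules, FlatMod.IsFinLocFreeOfRank n E ∧
      Nonempty ((Scheme.Modules.pullback ((Spec.map (CommRingCat.ofHom φ)) ∣_ U)).obj E ≅ E') := by
  classical
  let S : CommRingCat.{u} := CommRingCat.of A'
  let ψ : CommRingCat.of A ⟶ S := CommRingCat.ofHom φ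
  haveI : IsNoetherianRing S := ‹IsNoetherianRing A'›
  have hlf : FlatMod.IsFinLocFree E' := fun x => (hE' x).imp fun V hV => ⟨n, hV⟩
  have hFP := Groth.L18.LFP.isFP_of_isFinLocFree E' hlf
  haveI : SheafOfModules.IsFinitePresentation (R := (Spec.map ψ ⁻¹ᵁ U).toScheme.ringCatSheaf) E' := hFP
  haveI : Coh.IsQCoh E' := { nonempty_quasicoherentData := ⟨hFP.exists_quasicoherentData.choose⟩ }
  obtain ⟨N, hNfin, ⟨eN⟩⟩ := exists_tilde_extension' (S := S) (Spec.map ψ ⁻¹ᵁ U) E' (show CohB1.IsFT E' from inferInstance)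
  haveI := hNfin
  haveI : Module.FinitePresentation A' N := Module.finitePresentation_of_finite _ _
  have hNrank : ∀ (p : Ideal A') [p.IsPrime] (q : Ideal A) [q.IsPrime],
      q = p.comap φ → (⟨q, inferInstance⟩ : PrimeSpectrum A) ∈ U → FreeRankAt (R := A') N p n := by
    intro p hp q _ hpq hqU
    refine freeRankAt_of_isFinLocFreeOfRank (R := S) N (W := Spec.map ψ ⁻¹ᵁ U)
      (fun x => (hE' x).imp fun V hV => ⟨hV.1, hV.2.map fun i => (Scheme.Modules.restrictFunctor V.ι).mapIso eN ≪≫ i⟩)
      (x := (⟨p, hp⟩ : PrimeSpectrum A')) ?_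
    subst hpq
    exact hqU
  -- the common completion
  let C := AdicCompletion J A
  let C' := AdicCompletion (J.map φ) A'
  have hJfg : J.FG := IsNoetherian.noetherian J
  have hbij : Function.Bijective (Groth.L06.GRingTransport.mapCompletion φ J (J.map φ) le_rfl) := by
    refine Groth.L06.IAdic.mapCompletion_bijective φ J (J.map φ) le_rfl (fun m y => ?_) fun m x hx => ?_
    · obtain ⟨z, hz⟩ := (hq m).2 (Ideal.Quotient.mk _ y)
      obtain ⟨x, rfl⟩ := Ideal.Quotient.mk_surjective z
      rw [Ideal.quotientMap_mk, Ideal.Quotient.eq] at hz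
      exact ⟨x, by rwa [← Ideal.map_pow]⟩
    · rw [← Ideal.Quotient.eq_zero_iff_mem]
      refine (hq m).1 ?_
      rw [Ideal.quotientMap_mk, map_zero, Ideal.Quotient.eq_zero_iff_mem, Ideal.map_pow]
      exact hx
  let ec : C ≃+* C' := RingEquiv.ofBijective _ hbij
  letI : Algebra A A' := φ.toAlgebra
  letI : Algebra A' C := (ec.symm.toRingHom.comp (algebraMap A' C')).toAlgebra
  haveI : IsScalarTower A A' C := IsScalarTower.of_algebraMap_eq fun x => by
    show algebraMap A C x = ec.symm (algebraMap A' C' (φ x))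
    rw [RingEquiv.eq_symm_apply]
    exact Groth.L06.GRingTransport.mapCompletion_algebraMap φ J (J.map φ) le_rfl x
  let eA : C ≃ₐ[A'] C' := AlgEquiv.ofRingEquiv (f := ec) fun x => ec.apply_symm_apply (algebraMap A' C' x)
  haveI : Module.Flat A' C := Module.Flat.of_linearEquiv eA.toLinearEquiv
  haveI : IsNoetherianRing C := Groth.L01.AdicNoeth.isNoetherianRing_adicCompletion J hJfg
  -- a lattice over `A`
  have hMbar : ∀ (P : Ideal C) [P.IsPrime], ¬ Ideal.map (algebraMap A C) J ≤ P →
      Module.Free (Localization.AtPrime P) (LocalizedModule P.primeCompl (C ⊗[A'] N)) := by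
    intro P _ hP
    let p' := P.comap (algebraMap A' C)
    have hpq : p'.comap φ = P.comap (algebraMap A C) := by
      rw [Ideal.comap_comap]; exact congrArg (fun f => P.comap f) (IsScalarTower.algebraMap_eq A A' C).symm
    exact (FreeRankAt.baseChange (S := C) P p' rfl (hNrank p' (p'.comap φ) rfl
      (hU _ fun hJ => hP (Ideal.map_le_iff_le_comap.mpr (hJ.trans hpq.le))))).free
  obtain ⟨M, _, _, hMfin, hMfp, -, ⟨eM⟩⟩ :=
    Groth.Agent.S12643.result A A J J (by simp) J le_rfl (C ⊗[A'] N) hMbar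
  obtain ⟨eM'⟩ := nonempty_equiv_descent (R := A') (C := C) (J := (J.map φ) ^ 1)
    ((AdicCompletion.evalₐ (J.map φ) 1).comp eA.toAlgHom) (M := A' ⊗[A] M) (P := N)
    (by rw [pow_one]; exact HenselianRing.jac)
    ((AlgebraTensorModule.cancelBaseChange A A' C C M).trans eM)
  -- primes of the completion
  haveI : Module.FaithfullyFlat A C := ⟨fun m hm => by
    have hJm : J ^ 1 ≤ m := by
      rw [pow_one]
      exact (HenselianRing.jac).trans (sInf_le ⟨bot_le, hm⟩)
    let π : C →+* A ⧸ m := (Ideal.Quotient.factor hJm).comp (AdicCompletion.evalₐ J 1).toRingHom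
    rw [Ideal.smul_top_eq_map]
    refine fun htop => Ideal.Quotient.zero_ne_one_iff.mpr hm.ne_top ?_
    have h1 : (1 : C) ∈ Ideal.map (algebraMap A C) m := (Submodule.restrictScalars_eq_top_iff _ _ _).mp htop ▸ trivial
    have h2 := Ideal.mem_map_of_mem π h1
    have hπ : π.comp (algebraMap A C) = Ideal.Quotient.mk m := RingHom.ext fun x => by
      show Ideal.Quotient.factor hJm (AdicCompletion.evalₐ J 1 (algebraMap A C x)) = _
      rw [AlgHom.commutes]
      rfl
    rw [Ideal.map_map, hπ, Ideal.map_quotient_self, map_one, Ideal.mem_bot] at h2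
    exact h2.symm⟩
  let M' : ModuleCat.{u} (CommRingCat.of A) := ModuleCat.of A M
  haveI : Module.FinitePresentation (CommRingCat.of A) M' := hMfp
  have hMrank : ∀ x ∈ U, FreeRankAt (R := A) M (x : PrimeSpectrum A).asIdeal n := by
    intro x hx
    obtain ⟨P, hP⟩ := PrimeSpectrum.comap_surjective_of_faithfullyFlat (A := A) (B := C) x
    have hxP : x.asIdeal = P.asIdeal.comap (algebraMap A C) := (congrArg PrimeSpectrum.asIdeal hP).symm
    let p' := P.asIdeal.comap (algebraMap A' C)
    have hpq : x.asIdeal = p'.comap φ := by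
      rw [hxP, Ideal.comap_comap]; exact congrArg (fun f => P.asIdeal.comap f) (IsScalarTower.algebraMap_eq A A' C)
    exact freeRankAt_of_flat eM P.asIdeal (FreeRankAt.baseChange (S := C) P.asIdeal p' rfl
      (hNrank p' x.asIdeal hpq hx)) x.asIdeal hxP
  refine ⟨(tilde M').restrict U.ι, isFinLocFreeOfRank_restrict M' hMrank, ?_⟩
  obtain ⟨ex⟩ := Groth.L18.TildeF.extendScalars_equiv (R := A) (S := A') M'
  let eT : (Scheme.Modules.pullback (Spec.map ψ)).obj (tilde M') ≅ tilde N :=
    (Groth.L18.TildeF.pullbackTildeIso ψ).app M' ≪≫ (tilde.functor S).mapIso (ex.trans eM').toModuleIso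
  exact ⟨pullbackRestrictIso (Spec.map ψ) U (tilde M') ≪≫
    (Scheme.Modules.restrictFunctor (Spec.map ψ ⁻¹ᵁ U).ι).mapIso eT ≪≫ eN⟩

end Groth.L14.PicSurj
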