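import Groth.Agent.L14.PicSurj.Local
import Groth.Agent.L14.ParaF.Basic
import Mathlib.AlgebraicGeometry.Modules.Tilde

/-!
# Local generators of associated sheaves
-/

set_option autoImplicit false
set_option backward.isDefEq.respectTransparency false

universe u

open CategoryTheory AlgebraicGeometry TopologicalSpace Opposite

noncomputable section

namespace Groth.L14.PicSurj

open Groth.L21.Extend

variable {R : CommRingCat.{u}} (M : ModuleCat.{u} R)

/-- The section of `M^~` given by an element of `M`. -/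
def sec (U : (Spec R).Opens) : M →ₗ[R] Γ(tilde M, U) := (tilde.toOpen M U).hom

theorem rs_sec {U V : (Spec R).Opens} (h : V ≤ U) (m : M) : rs (tilde M) h (sec M U m) = sec M V m := rfl

instance (t : R) : IsLocalizedModule (Submonoid.powers t) (sec M (PrimeSpectrum.basicOpen t)) :=
  inferInstanceAs (IsLocalizedModule.Away t (tilde.toOpen M (PrimeSpectrum.basicOpen t)).hom)

theorem bijective_smul_sec {s : R} {m : M} (h : FreeAt M s m) :
    Function.Bijective fun a : Γ(Spec R, PrimeSpectrum.basicOpen s) => a • sec M (PrimeSpectrum.basicOpen s) m := by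
  let A := Γ(Spec R, PrimeSpectrum.basicOpen s)
  let f := sec M (PrimeSpectrum.basicOpen s)
  have hmul : ∀ (a : A) (c : R), c • a • f m = (algebraMap R A c * a) • f m := fun a c => by
    rw [mul_smul, algebraMap_smul]
  refine ⟨fun a b hab => ?_, fun y => ?_⟩
  · rw [← sub_eq_zero]
    have h0 : (a - b) • f m = 0 := by rw [sub_smul]; exact sub_eq_zero.mpr hab
    obtain ⟨⟨r, u⟩, hru⟩ := IsLocalization.mk'_surjective (Submonoid.powers s) (a - b)
    rw [← hru] at h0 ⊢
    have h1 := congrArg (fun z => (u : R) • z) h0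
    simp only [smul_zero] at h1
    rw [hmul, IsLocalization.mk'_spec', algebraMap_smul, ← map_smul,
      IsLocalizedModule.eq_zero_iff (Submonoid.powers s)] at h1
    obtain ⟨v, hv⟩ := h1
    obtain ⟨k, hk⟩ := h.2 ((v : R) * r) (by rw [mul_smul]; exact hv)
    rw [IsLocalization.mk'_eq_zero_iff]
    exact ⟨⟨s ^ k * v, mul_mem ⟨k, rfl⟩ v.2⟩, by simpa [mul_assoc] using hk⟩
  · obtain ⟨⟨x, u⟩, hxu⟩ := IsLocalizedModule.surj (Submonoid.powers s) f y
    obtain ⟨k, r, hr⟩ := h.1 x
    let w : Submonoid.powers s := ⟨s ^ k, k, rfl⟩ * u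
    refine ⟨IsLocalization.mk' A r w, IsLocalizedModule.smul_injective f w ?_⟩
    show (w : R) • (IsLocalization.mk' A r w) • f m = (w : R) • y
    rw [hmul, IsLocalization.mk'_spec', algebraMap_smul, ← map_smul, ← hr, map_smul, ← hxu,
      Submonoid.smul_def, smul_smul]
    rfl

theorem isGen_sec {s : R} {m : M} (h : FreeAt M s m) :
    IsGen (tilde M) (PrimeSpectrum.basicOpen s) (sec M _ m) := by
  classical
  let X := Spec R
  let D : R → X.Opens := fun t => PrimeSpectrum.basicOpen t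
  have hD : ∀ t, D t ≤ D s → Function.Bijective fun a : Γ(X, D t) => a • sec M (D t) m := by
    intro t ht
    obtain ⟨n, hn⟩ := (PrimeSpectrum.basicOpen_le_basicOpen_iff t s).mp ht
    obtain ⟨c, hc⟩ := Ideal.mem_span_singleton'.mp hn
    exact bijective_smul_sec M (h.of_dvd hc.symm)
  have hcov : ∀ (V : X.Opens) (y : X), y ∈ V → ∃ t, D t ≤ V ∧ y ∈ D t := by
    intro V y hy
    obtain ⟨_, ⟨_, ⟨t, rfl⟩, rfl⟩, hyt, htV⟩ :=
      (PrimeSpectrum.isBasis_basic_opens (R := R)).exists_subset_of_mem_open hy V.2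
    exact ⟨t, htV, hyt⟩
  have hinj : ∀ (V : X.Opens), V ≤ D s → Function.Injective fun a : Γ(X, V) => a • sec M V m := by
    intro V hV a b hab
    refine eq_of_locally (Coh.structureModule X) (show Γ(Coh.structureModule X, V) from a) b fun y hy => ?_
    obtain ⟨t, htV, hyt⟩ := hcov V y hy
    refine ⟨D t, htV, hyt, (hD t (htV.trans hV)).1 ?_⟩
    have := congrArg (rs (tilde M) htV) hab
    rw [rs_smul, rs_smul, rs_sec] at this
    exact this
  intro V hV
  simp only [rs_sec]
  refine ⟨hinj V hV, fun y => ?_⟩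
  choose t htV hyt using fun p : V => hcov V p.1 p.2
  choose a ha using fun p : V => (hD (t p) ((htV p).trans hV)).2 (rs (tilde M) (htV p) y)
  obtain ⟨a', ha'⟩ := exists_glue (Coh.structureModule X) (fun p : V => D (t p)) V htV
    (fun p hp => ⟨⟨p, hp⟩, hyt ⟨p, hp⟩⟩) a fun i j => by
      refine hinj _ ((inf_le_left.trans (htV i)).trans hV) ?_
      have h1 := congrArg (rs (tilde M) (inf_le_left : D (t i) ⊓ D (t j) ≤ D (t i))) (ha i)
      have h2 := congrArg (rs (tilde M) (inf_le_right : D (t i) ⊓ D (t j) ≤ D (t j))) (ha j)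
      simp only [rs_smul, rs_sec, rs_rs] at h1 h2
      exact h1.trans h2.symm
  refine ⟨a', eq_of_locally (tilde M) _ _ fun p hp => ⟨D (t ⟨p, hp⟩), htV _, hyt _, ?_⟩⟩
  have h3 : rO X (htV ⟨p, hp⟩) a' = a ⟨p, hp⟩ := ha' ⟨p, hp⟩
  rw [rs_smul, rs_sec, h3]
  exact ha ⟨p, hp⟩

theorem genOn_tilde {U : (Spec R).Opens}
    (h : ∀ y ∈ U, ∃ s : R, s ∉ (y : PrimeSpectrum R).asIdeal ∧ ∃ m : M, FreeAt M s m) :
    GenOn (tilde M) U := by
  intro y hy
  obtain ⟨s, hs, m, hm⟩ := h y hy
  exact ⟨PrimeSpectrum.basicOpen s ⊓ U, ⟨hs, hy⟩, inf_le_right, _, (isGen_sec M hm).restrict _ inf_le_left⟩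

theorem exists_freeAt_of_genOn {U : (Spec R).Opens} (h : GenOn (tilde M) U) {y : Spec R} (hy : y ∈ U) :
    ∃ s : R, s ∉ (y : PrimeSpectrum R).asIdeal ∧ ∃ m : M, FreeAt M s m := by
  obtain ⟨O, hyO, -, e, he⟩ := h y hy
  obtain ⟨_, ⟨_, ⟨s, rfl⟩, rfl⟩, hys, hsO⟩ :=
    (PrimeSpectrum.isBasis_basic_opens (R := R)).exists_subset_of_mem_open hyO O.2
  let A := Γ(Spec R, PrimeSpectrum.basicOpen s)
  let f := sec M (PrimeSpectrum.basicOpen s)
  have hb := he (PrimeSpectrum.basicOpen s) hsO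
  obtain ⟨⟨n, u⟩, hnu⟩ := IsLocalizedModule.surj (Submonoid.powers s) f (rs (tilde M) hsO e)
  obtain ⟨i, hi⟩ := u.2
  refine ⟨s, hys, n, fun x => ?_, fun r hr => ?_⟩
  · obtain ⟨a, ha⟩ := hb.2 (f x)
    obtain ⟨⟨r, v⟩, rfl⟩ := IsLocalization.mk'_surjective (Submonoid.powers s) a
    obtain ⟨j, hj⟩ := v.2
    have h1 : f (((u : R) * v) • x) = f (r • n) := by
      rw [map_smul, map_smul, ← hnu, Submonoid.smul_def, ← ha, mul_smul, ← algebraMap_smul A (v : R), smul_smul,
        IsLocalization.mk'_spec', algebraMap_smul, smul_comm]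
    obtain ⟨w, hw⟩ := (IsLocalizedModule.eq_iff_exists (Submonoid.powers s) f).mp h1
    obtain ⟨k, hk⟩ := w.2
    refine ⟨k + (i + j), s ^ k * r, ?_⟩
    simp only [Submonoid.smul_def] at hw
    rw [pow_add, pow_add, show s ^ k = (w : R) from hk, show s ^ i = (u : R) from hi,
      show s ^ j = (v : R) from hj, mul_smul (w : R) ((u : R) * v), mul_smul (w : R) r]
    exact hw
  · have h0 : algebraMap R A (r * u) • rs (tilde M) hsO e = 0 := by
      rw [algebraMap_smul, mul_smul, ← Submonoid.smul_def u, hnu, ← map_smul, hr, map_zero]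
    have h1 : algebraMap R A (r * u) = 0 := hb.1 (h0.trans (zero_smul A _).symm)
    obtain ⟨w, hw⟩ := (IsLocalization.map_eq_zero_iff (Submonoid.powers s) A _).mp h1
    obtain ⟨k, hk⟩ := w.2
    exact ⟨k + i, by rw [pow_add, show s ^ k = (w : R) from hk, show s ^ i = (u : R) from hi, mul_assoc,
      mul_comm (u : R)]; exact hw⟩

end Groth.L14.PicSurj
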