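import Groth.Agent.L14.PicSurj.Rank
import Groth.Agent.L14.PicSurj.Main
import Groth.Agent.L18.LocFreeTilde
import Groth.Agent.L29.LocFree

/-!
# Locally free associated sheaves of given rank
-/

set_option autoImplicit false
set_option backward.isDefEq.respectTransparency false

universe u

open CategoryTheory AlgebraicGeometry TopologicalSpace Opposite TensorProduct

noncomputable section

namespace Groth.L14.PicSurj

variable {R : CommRingCat.{u}}

/-- `Spec R_s → Spec R`. -/
abbrev awayMap (s : R) : Spec (CommRingCat.of (Localization.Away s)) ⟶ Spec R :=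
  Spec.map (CommRingCat.ofHom (algebraMap R (Localization.Away s)))

/-- `D(s)` as an open of the scheme `Spec R`. -/
abbrev DOpen (s : R) : (Spec R).Opens := PrimeSpectrum.basicOpen s

theorem range_awayMap (s : R) :
    Set.range (awayMap s).base = Set.range (DOpen s).ι.base := by
  rw [Scheme.Opens.range_ι]
  exact PrimeSpectrum.localization_away_comap_range (Localization.Away s) s

/-- `D(s) ≅ Spec R_s`. -/
def awayIso (s : R) : ((DOpen s) : Scheme.{u}) ≅
    Spec (CommRingCat.of (Localization.Away s)) :=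
  IsOpenImmersion.isoOfRangeEq _ (awayMap s) (range_awayMap s).symm

theorem awayIso_hom_comp (s : R) :
    (awayIso s).hom ≫ awayMap s = (DOpen s).ι :=
  IsOpenImmersion.isoOfRangeEq_hom_fac _ _ _

/-- Restriction to `D(s)` through `Spec R_s`. -/
def restrictAwayIso (s : R) (F : (Spec R).Modules) :
    F.restrict (DOpen s).ι ≅
      (Scheme.Modules.pullback (awayIso s).hom).obj ((Scheme.Modules.pullback (awayMap s)).obj F) :=
  (Scheme.Modules.restrictFunctorIsoPullback _).app F ≪≫
    (Scheme.Modules.pullbackCongr (awayIso_hom_comp s).symm).app F ≪≫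
    ((Scheme.Modules.pullbackComp (awayIso s).hom (awayMap s)).app F).symm

/-- The free module on an affine scheme as an associated sheaf. -/
def tildePiIso (S : CommRingCat.{u}) (n : ℕ) :
    tilde (ModuleCat.of S (Fin n → S)) ≅ FlatMod.freeMod (Spec S) n :=
  (tilde.functor S).mapIso (((Finsupp.linearEquivFunOnFinite S S (Fin n)).symm.trans
      (Finsupp.domLCongr Equiv.ulift.{u}.symm)).toModuleIso) ≪≫
    tildeFinsupp _ ≪≫ Groth.L18.LFP.uliftIso _ n

variable (M : ModuleCat.{u} R)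

theorem nonempty_pullback_away_iso (s : R) (n : ℕ) :
    Nonempty (Localization.Away s ⊗[R] M ≃ₗ[Localization.Away s] (Fin n → Localization.Away s)) ↔
      Nonempty ((Scheme.Modules.pullback (awayMap s)).obj (tilde M) ≅ FlatMod.freeMod _ n) := by
  let S : CommRingCat.{u} := CommRingCat.of (Localization.Away s)
  let φ : R ⟶ S := CommRingCat.ofHom (algebraMap R (Localization.Away s))
  obtain ⟨ex⟩ := Groth.L18.TildeF.extendScalars_equiv (R := R) (S := Localization.Away s) M
  let c : (Scheme.Modules.pullback (awayMap s)).obj (tilde M) ≅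
      (tilde.functor S).obj (ModuleCat.of S (Localization.Away s ⊗[R] M)) :=
    (Groth.L18.TildeF.pullbackTildeIso φ).app M ≪≫ (tilde.functor S).mapIso ex.toModuleIso
  constructor
  · rintro ⟨e⟩
    exact ⟨c ≪≫ (tilde.functor S).mapIso (LinearEquiv.toModuleIso e) ≪≫ tildePiIso S n⟩
  · rintro ⟨i⟩
    exact ⟨((tilde.fullyFaithfulFunctor (R := S)).preimageIso (c.symm ≪≫ i ≪≫ (tildePiIso S n).symm)).toLinearEquiv⟩

theorem restrict_iso_iff (s : R) (n : ℕ) :
    Nonempty (Localization.Away s ⊗[R] M ≃ₗ[Localization.Away s] (Fin n → Localization.Away s)) ↔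
      Nonempty ((tilde M).restrict (DOpen s).ι ≅ FlatMod.freeMod _ n) := by
  rw [nonempty_pullback_away_iso]
  constructor
  · rintro ⟨i⟩
    exact ⟨restrictAwayIso s _ ≪≫ (Scheme.Modules.pullback (awayIso s).hom).mapIso i ≪≫
      Groth.L29.LocFree.pullbackFreeIso _ n⟩
  · rintro ⟨i⟩
    let G := (Scheme.Modules.pullback (awayMap s)).obj (tilde M)
    exact ⟨((Scheme.Modules.pullbackId _).app G).symm ≪≫
      (Scheme.Modules.pullbackCongr (awayIso s).inv_hom_id.symm).app G ≪≫
      ((Scheme.Modules.pullbackComp (awayIso s).inv (awayIso s).hom).app G).symm ≪≫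
      (Scheme.Modules.pullback (awayIso s).inv).mapIso ((restrictAwayIso s _).symm ≪≫ i) ≪≫
      Groth.L29.LocFree.pullbackFreeIso _ n⟩

theorem isFinLocFreeOfRank_restrict [Module.FinitePresentation R M] {U : (Spec R).Opens} {n : ℕ}
    (h : ∀ x ∈ U, FreeRankAt (R := R) M (x : PrimeSpectrum R).asIdeal n) :
    FlatMod.IsFinLocFreeOfRank n ((tilde M).restrict U.ι) := by
  intro x
  obtain ⟨s, hs, he⟩ := exists_away_of_freeRankAt (h x.1 x.2)
  obtain ⟨i⟩ := (restrict_iso_iff M s n).mp he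
  obtain ⟨j⟩ := Groth.L29.LocFree.restrict_pullback U.ι i
  exact ⟨U.ι ⁻¹ᵁ DOpen s, hs,
    ⟨(Scheme.Modules.restrictFunctor _).mapIso ((Scheme.Modules.restrictFunctorIsoPullback U.ι).app _) ≪≫ j⟩⟩

theorem freeRankAt_of_isFinLocFreeOfRank {W : (Spec R).Opens} {n : ℕ}
    (h : FlatMod.IsFinLocFreeOfRank n ((tilde M).restrict W.ι)) {x : Spec R} (hx : x ∈ W) :
    FreeRankAt (R := R) M (x : PrimeSpectrum R).asIdeal n := by
  obtain ⟨O, hxO, ⟨i⟩⟩ := h ⟨x, hx⟩
  obtain ⟨_, ⟨_, ⟨s, rfl⟩, rfl⟩, hxs, hsO⟩ := (PrimeSpectrum.isBasis_basic_opens (R := R)).exists_subset_of_mem_open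
    (show x ∈ W.ι ''ᵁ O from ⟨⟨x, hx⟩, hxO, rfl⟩) (W.ι ''ᵁ O).2
  let D : (Spec R).Opens := PrimeSpectrum.basicOpen s
  let k : D.toScheme ⟶ O.toScheme := IsOpenImmersion.lift (O.ι ≫ W.ι) D.ι (by
    rw [Scheme.Opens.range_ι]
    intro y hy
    obtain ⟨z, hz, rfl⟩ := hsO hy
    exact ⟨⟨z, hz⟩, rfl⟩)
  have hk : (k ≫ O.ι) ≫ W.ι = D.ι := by rw [Category.assoc]; exact IsOpenImmersion.lift_fac _ _ _
  let G := tilde M
  let L := (Scheme.Modules.restrictFunctor W.ι).obj G
  refine freeRankAt_of_away (((restrict_iso_iff M s n).mpr ⟨?_⟩).some) _ hxs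
  exact (Scheme.Modules.restrictFunctorIsoPullback D.ι).app G ≪≫
    (Scheme.Modules.pullbackCongr hk.symm).app G ≪≫
    ((Scheme.Modules.pullbackComp (k ≫ O.ι) W.ι).app G).symm ≪≫
    (Scheme.Modules.pullback (k ≫ O.ι)).mapIso ((Scheme.Modules.restrictFunctorIsoPullback W.ι).app G).symm ≪≫
    ((Scheme.Modules.pullbackComp k O.ι).app L).symm ≪≫
    (Scheme.Modules.pullback k).mapIso (((Scheme.Modules.restrictFunctorIsoPullback O.ι).app L).symm ≪≫ i) ≪≫
    Groth.L29.LocFree.pullbackFreeIso k n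

end Groth.L14.PicSurj
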