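import Groth.Agent.L14.PicSurj.Local
import Mathlib.RingTheory.Flat.Stability
import Mathlib.RingTheory.Flat.FaithfullyFlat.Algebra
import Mathlib.RingTheory.LocalRing.Module
import Mathlib.RingTheory.TensorProduct.Quotient
import Mathlib.RingTheory.OrzechProperty
import Mathlib.Algebra.Module.LocalizedModule.AtPrime

/-!
# Rank of finitely presented modules and base change
-/

set_option autoImplicit false

universe u

open TensorProduct

namespace Groth.L14.PicSurj

variable {R : Type u} [CommRing R] {M : Type u} [AddCommGroup M] [Module R M]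

/-- `M` is free of rank `n` at the prime `q`. -/
def FreeRankAt (M : Type u) [AddCommGroup M] [Module R M] (q : Ideal R) [q.IsPrime] (n : ℕ) : Prop :=
  Nonempty ((Fin n → Localization.AtPrime q) ≃ₗ[Localization.AtPrime q] LocalizedModule q.primeCompl M)

theorem FreeRankAt.free {q : Ideal R} [q.IsPrime] {n : ℕ} (h : FreeRankAt M q n) :
    Module.Free (Localization.AtPrime q) (LocalizedModule q.primeCompl M) :=
  Module.Free.of_equiv h.some

theorem FreeRankAt.finrank_eq {q : Ideal R} [q.IsPrime] {n : ℕ} (h : FreeRankAt M q n) :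
    Module.finrank (Localization.AtPrime q) (LocalizedModule q.primeCompl M) = n := by
  rw [← h.some.finrank_eq, Module.finrank_fin_fun]

theorem freeRankAt_of_finrank [Module.Finite R M] (q : Ideal R) [q.IsPrime]
    [Module.Free (Localization.AtPrime q) (LocalizedModule q.primeCompl M)] {n : ℕ}
    (h : Module.finrank (Localization.AtPrime q) (LocalizedModule q.primeCompl M) = n) : FreeRankAt M q n :=
  ⟨((Module.finBasisOfFinrankEq _ _ h).equivFun).symm⟩

/-- A module isomorphic to a free one after inverting `s` is free at primes not containing `s`. -/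
theorem freeRankAt_of_away {s : R} {S : Type u} [CommRing S] [Algebra R S] [IsLocalization.Away s S] {n : ℕ}
    (e : S ⊗[R] M ≃ₗ[S] (Fin n → S)) (q : Ideal R) [q.IsPrime] (hs : s ∉ q) : FreeRankAt M q n := by
  let Rq := Localization.AtPrime q
  let φ : S →+* Rq := IsLocalization.Away.lift s (g := algebraMap R Rq)
    (IsLocalization.map_units Rq (⟨s, hs⟩ : q.primeCompl))
  algebraize_only [φ]
  haveI : IsScalarTower R S Rq := IsScalarTower.of_algebraMap_eq fun x => by
    rw [RingHom.algebraMap_toAlgebra]; exact (IsLocalization.Away.lift_eq s _ x).symm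
  have hbc : IsBaseChange Rq (LocalizedModule.mkLinearMap q.primeCompl M) :=
    (isLocalizedModule_iff_isBaseChange q.primeCompl Rq _).mp inferInstance
  exact ⟨((hbc.equiv.symm.trans (AlgebraTensorModule.cancelBaseChange R S Rq Rq M).symm).trans
    ((AlgebraTensorModule.congr (LinearEquiv.refl Rq Rq) e).trans (piScalarRight S Rq Rq (Fin n)))).symm⟩

/-- A module free at a prime is free after inverting an element outside it. -/
theorem exists_away_of_freeRankAt [Module.FinitePresentation R M] {q : Ideal R} [q.IsPrime] {n : ℕ}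
    (h : FreeRankAt M q n) :
    ∃ s ∉ q, Nonempty (Localization.Away s ⊗[R] M ≃ₗ[Localization.Away s] (Fin n → Localization.Away s)) := by
  obtain ⟨e⟩ := h
  let fP : (Fin n → R) →ₗ[R] (Fin n → Localization.AtPrime q) :=
    LinearMap.pi fun i => (Algebra.linearMap R (Localization.AtPrime q)) ∘ₗ LinearMap.proj i
  haveI : IsLocalizedModule q.primeCompl fP := IsLocalizedModule.pi q.primeCompl _
  obtain ⟨r, hr, l', -⟩ := Module.FinitePresentation.exists_lift_equiv_of_isLocalizedModule q.primeCompl fP
    (LocalizedModule.mkLinearMap q.primeCompl M) (e.restrictScalars R)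
  refine ⟨r, hr, ?_⟩
  let S := Localization.Away r
  have h1 : IsBaseChange S (LocalizedModule.mkLinearMap (Submonoid.powers r) M) :=
    (isLocalizedModule_iff_isBaseChange (Submonoid.powers r) S _).mp inferInstance
  have h2 : IsBaseChange S (LocalizedModule.mkLinearMap (Submonoid.powers r) (Fin n → R)) :=
    (isLocalizedModule_iff_isBaseChange (Submonoid.powers r) S _).mp inferInstance
  exact ⟨((h1.equiv.trans l'.symm).trans h2.equiv.symm).trans (piScalarRight R S S (Fin n))⟩

section BaseChange

variable {S : Type u} [CommRing S] [Algebra R S] {N : Type u} [AddCommGroup N] [Module S N]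

theorem finrank_residue_baseChange [Module.Finite S N] (e : S ⊗[R] M ≃ₗ[S] N) (p : Ideal S) [p.IsPrime]
    {n : ℕ} (hN : FreeRankAt N p n) : Module.finrank p.ResidueField (p.ResidueField ⊗[R] M) = n := by
  haveI := hN.free
  rw [← (AlgebraTensorModule.cancelBaseChange R S p.ResidueField p.ResidueField M).finrank_eq,
    (AlgebraTensorModule.congr (LinearEquiv.refl p.ResidueField p.ResidueField) e).finrank_eq,
    finrank_residue (κ := p.ResidueField) p (Ideal.ker_algebraMap_residueField p), hN.finrank_eq]

theorem freeRankAt_of_free [Module.Finite R M] [Module.Finite S N] (e : S ⊗[R] M ≃ₗ[S] N) (p : Ideal S) [p.IsPrime]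
    {n : ℕ} (hN : FreeRankAt N p n) (q : Ideal R) [q.IsPrime] (hq : q = p.comap (algebraMap R S))
    [Module.Free (Localization.AtPrime q) (LocalizedModule q.primeCompl M)] : FreeRankAt M q n := by
  refine freeRankAt_of_finrank q ?_
  rw [← finrank_residue (κ := p.ResidueField) q (by
    rw [hq, IsScalarTower.algebraMap_eq R S p.ResidueField, ← RingHom.comap_ker, Ideal.ker_algebraMap_residueField]),
    finrank_residue_baseChange e p hN]

open IsLocalRing in
theorem free_descent {A T P : Type u} [CommRing A] [IsLocalRing A] [CommRing T] [IsLocalRing T] [Algebra A T]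
    [Module.Flat A T] [IsLocalHom (algebraMap A T)] [AddCommGroup P] [Module A P] [Module.Finite A P] {n : ℕ}
    (e : T ⊗[A] P ≃ₗ[T] (Fin n → T)) : Nonempty ((Fin n → A) ≃ₗ[A] P) := by
  haveI : Module.FaithfullyFlat A T := Module.FaithfullyFlat.of_flat_of_isLocalHom
  let κ := ResidueField T
  have hd : Module.finrank (ResidueField A) (ResidueField A ⊗[A] P) = n := by
    rw [← Module.finrank_baseChange (R := κ) (S := ResidueField A),
      (AlgebraTensorModule.cancelBaseChange A (ResidueField A) κ κ P).finrank_eq,
      ← (AlgebraTensorModule.cancelBaseChange A T κ κ P).finrank_eq,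
      (AlgebraTensorModule.congr (LinearEquiv.refl κ κ) e).finrank_eq,
      (piScalarRight T κ κ (Fin n)).finrank_eq, Module.finrank_fin_fun]
  let b := Module.finBasisOfFinrankEq _ _ hd
  choose v hv using fun i => TensorProduct.mk_surjective A P (ResidueField A) residue_surjective (b i)
  have hspan := span_eq_top_of_tmul_eq_basis (R := A) v b hv
  let π : (Fin n → A) →ₗ[A] P := Fintype.linearCombination A v
  have hπ : Function.Surjective π := by
    rw [← LinearMap.range_eq_top, Fintype.range_linearCombination, hspan]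
  refine ⟨LinearEquiv.ofBijective π ⟨?_, hπ⟩⟩
  rw [← Module.FaithfullyFlat.lTensor_injective_iff_injective A T]
  have hsurj : Function.Surjective (π.baseChange T) := LinearMap.lTensor_surjective T hπ
  let ψ : (Fin n → T) →ₗ[T] (Fin n → T) :=
    e.toLinearMap ∘ₗ π.baseChange T ∘ₗ (piScalarRight A T T (Fin n)).symm.toLinearMap
  have hψ : Function.Injective ψ := OrzechProperty.injective_of_surjective_endomorphism ψ
    (e.surjective.comp (hsurj.comp (piScalarRight A T T (Fin n)).symm.surjective))
  intro x y hxy
  refine (piScalarRight A T T (Fin n)).injective (hψ ?_)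
  simp only [ψ, LinearMap.comp_apply, LinearEquiv.coe_coe, LinearEquiv.symm_apply_apply]
  exact congrArg e hxy

/-- Freeness descends along flat maps. -/
theorem freeRankAt_of_flat [Module.Flat R S] [Module.Finite R M] (e : S ⊗[R] M ≃ₗ[S] N) (p : Ideal S) [p.IsPrime]
    {n : ℕ} (hN : FreeRankAt N p n) (q : Ideal R) [q.IsPrime] (hq : q = p.comap (algebraMap R S)) :
    FreeRankAt M q n := by
  obtain ⟨f⟩ := hN
  let A := Localization.AtPrime q
  let T := Localization.AtPrime p
  let φ : A →+* T := Localization.localRingHom q p (algebraMap R S) hq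
  algebraize_only [φ]
  haveI : IsLocalHom (algebraMap A T) := inferInstanceAs (IsLocalHom φ)
  haveI : IsScalarTower R A T := IsScalarTower.of_algebraMap_eq fun x => by
    rw [RingHom.algebraMap_toAlgebra, Localization.localRingHom_to_map, IsScalarTower.algebraMap_apply R S T]
  haveI : Module.Flat R T := Module.Flat.trans R S T
  haveI : Module.Flat A T := (Module.flat_iff_of_isLocalization A q.primeCompl T).mpr inferInstance
  have hA : IsBaseChange A (LocalizedModule.mkLinearMap q.primeCompl M) :=
    (isLocalizedModule_iff_isBaseChange q.primeCompl A _).mp inferInstance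
  have hT : IsBaseChange T (LocalizedModule.mkLinearMap p.primeCompl N) :=
    (isLocalizedModule_iff_isBaseChange p.primeCompl T _).mp inferInstance
  exact free_descent (((AlgebraTensorModule.congr (LinearEquiv.refl T T) hA.equiv.symm).trans
    (AlgebraTensorModule.cancelBaseChange R A T T M)).trans
    (((AlgebraTensorModule.cancelBaseChange R S T T M).symm.trans
      (AlgebraTensorModule.congr (LinearEquiv.refl T T) e)).trans (hT.equiv.trans f.symm)))

end BaseChange

section Descent

variable {C : Type u} [CommRing C] [Algebra R C] [Module.Flat R C] {J : Ideal R} (π : C →ₐ[R] R ⧸ J)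
  {P : Type u} [AddCommGroup P] [Module R P]

include π

theorem exists_surjective_descent [Module.Finite R P] [Module.FinitePresentation R M]
    (hJ : J ≤ (⊥ : Ideal R).jacobson) (g : C ⊗[R] M →ₗ[C] C ⊗[R] P) (hg : Function.Surjective g) :
    ∃ φ : M →ₗ[R] P, Function.Surjective φ := by
  classical
  obtain ⟨z, rfl⟩ := (Module.FinitePresentation.isBaseChange_map R M P C).equiv.surjective g
  obtain ⟨S, hS⟩ := TensorProduct.exists_finset z
  choose a ha using fun p : C × (M →ₗ[R] P) => Ideal.Quotient.mk_surjective (π p.1)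
  let φ := ∑ p ∈ S, a p • p.2
  refine ⟨φ, ?_⟩
  let E₁ : C ⊗[R] M →ₗ[R] (R ⧸ J) ⊗[R] M := π.toLinearMap.rTensor M
  let E₂ : C ⊗[R] P →ₗ[R] (R ⧸ J) ⊗[R] P := π.toLinearMap.rTensor P
  have hπ : Function.Surjective π := fun y => by
    obtain ⟨r, rfl⟩ := Ideal.Quotient.mk_surjective y
    exact ⟨algebraMap R C r, π.commutes r⟩
  have hE₂ : Function.Surjective E₂ := LinearMap.rTensor_surjective P hπ
  have key : E₂ ∘ₗ ((Module.FinitePresentation.isBaseChange_map R M P C).equiv z).restrictScalars R =
      φ.lTensor (R ⧸ J) ∘ₗ E₁ := by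
    rw [hS, map_sum]
    refine TensorProduct.ext' fun c m => ?_
    simp only [LinearMap.comp_apply, LinearMap.restrictScalars_apply, IsBaseChange.equiv_tmul, LinearMap.coe_sum,
      Finset.sum_apply, LinearMap.smul_apply, LinearMap.baseChangeHom_apply, LinearMap.baseChange_tmul, E₁, E₂,
      LinearMap.rTensor_tmul, map_sum, LinearMap.lTensor_tmul, φ, TensorProduct.tmul_sum]
    refine Finset.sum_congr rfl fun p _ => ?_
    rw [smul_tmul', LinearMap.rTensor_tmul, AlgHom.toLinearMap_apply, smul_eq_mul, map_mul, ← ha,
      AlgHom.toLinearMap_apply, tmul_smul, smul_tmul', Algebra.smul_def (a p), Ideal.Quotient.algebraMap_eq]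
  have hs : Function.Surjective (φ.lTensor (R ⧸ J)) := fun y => by
    obtain ⟨x, hx⟩ := (hE₂.comp hg) y
    exact ⟨E₁ x, (LinearMap.congr_fun key x).symm.trans hx⟩
  rw [← LinearMap.range_eq_top]
  refine top_le_iff.mp (Submodule.le_of_le_smul_of_le_jacobson_bot (I := J) Module.Finite.fg_top hJ fun y _ => ?_)
  obtain ⟨x, hx⟩ := hs (1 ⊗ₜ y)
  obtain ⟨x', rfl⟩ := TensorProduct.mk_surjective R M (R ⧸ J) Ideal.Quotient.mk_surjective x
  rw [TensorProduct.mk_apply, LinearMap.lTensor_tmul] at hx
  have h2 := congrArg (quotTensorEquivQuotSMul P J) hx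
  simp only [quotTensorEquivQuotSMul_mk_tmul, one_smul, ← map_one (Ideal.Quotient.mk J)] at h2
  rw [← add_sub_cancel (φ x') y]
  exact Submodule.add_mem_sup ⟨x', rfl⟩ ((Submodule.Quotient.eq _).mp h2.symm)

/-- Isomorphisms of finitely presented modules descend along the completion. -/
theorem nonempty_equiv_descent [Module.FinitePresentation R M] [Module.FinitePresentation R P]
    (hJ : J ≤ (⊥ : Ideal R).jacobson) (g : C ⊗[R] M ≃ₗ[C] C ⊗[R] P) : Nonempty (M ≃ₗ[R] P) := by
  obtain ⟨φ, hφ⟩ := exists_surjective_descent π hJ g.toLinearMap g.surjective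
  obtain ⟨ψ, hψ⟩ := exists_surjective_descent π hJ g.symm.toLinearMap g.symm.surjective
  exact ⟨LinearEquiv.ofBijective φ
    ⟨Function.Injective.of_comp (f := ψ)
      (OrzechProperty.injective_of_surjective_endomorphism (ψ ∘ₗ φ) (hψ.comp hφ)), hφ⟩⟩

end Descent

end Groth.L14.PicSurj
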